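import Cfsg.Agent.FGS4.ConwayOut.Lists

/-!
# Data for the involution centraliser of Co₂
-/

set_option autoImplicit false
set_option maxRecDepth 20000

namespace Cfsg.Agent.FGS4.Co2Cent

/-- The root attached to each of the 64 classes. -/
def rootTab : List (List ℤ) := [
  [0, 0, 0, 0, 0, 0, 0, 0, 0, 0, 0, 0, 0, 0, 0, 0, 0, 0, 0, 0, 0, 0, 0, 0],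
  [4, 0, 0, 0, 0, 0, 0, 0, 0, 0, 0, 0, 0, 0, 0, 0, 0, 0, 0, 0, 0, 0, 0, (-4)],
  [0, 4, 0, 0, 0, 0, 0, 0, 0, 0, 0, 0, 0, 4, 0, 0, 0, 0, 0, 0, 0, 0, 0, 0],
  [0, 4, 0, 0, 0, 0, 0, 0, 0, 0, 0, 0, 0, (-4), 0, 0, 0, 0, 0, 0, 0, 0, 0, 0],
  [0, 0, 0, 0, 0, 0, 0, 0, 0, 0, 0, 0, 0, 0, 0, 0, 0, 4, (-4), 0, 0, 0, 0, 0],
  [0, 0, 0, 0, 0, 0, 0, 0, 0, 0, 0, 0, 0, 0, 0, 0, 0, 4, 4, 0, 0, 0, 0, 0],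
  [0, 0, 0, 0, 0, 0, 0, 0, 0, 0, 0, 0, 0, 0, 0, 4, 0, 0, 0, (-4), 0, 0, 0, 0],
  [0, 0, 0, 0, 0, 0, 0, 0, 0, 0, 0, 0, 0, 0, 0, 4, 0, 0, 0, 4, 0, 0, 0, 0],
  [(-2), (-2), 0, 0, 0, 0, 0, 0, 0, 0, 0, 0, 0, 2, 0, 2, 0, 2, 2, 2, 0, 0, 0, 2],
  [(-2), 2, 0, 0, 0, 0, 0, 0, 0, 0, 0, 0, 0, (-2), 0, (-2), 0, (-2), (-2), (-2), 0, 0, 0, 2],
  [(-2), (-2), 0, 0, 0, 0, 0, 0, 0, 0, 0, 0, 0, 2, 0, (-2), 0, (-2), (-2), (-2), 0, 0, 0, 2],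
  [(-2), 2, 0, 0, 0, 0, 0, 0, 0, 0, 0, 0, 0, (-2), 0, 2, 0, 2, 2, 2, 0, 0, 0, 2],
  [(-2), 2, 0, 0, 0, 0, 0, 0, 0, 0, 0, 0, 0, (-2), 0, (-2), 0, 2, 2, (-2), 0, 0, 0, 2],
  [(-2), (-2), 0, 0, 0, 0, 0, 0, 0, 0, 0, 0, 0, 2, 0, 2, 0, (-2), (-2), 2, 0, 0, 0, 2],
  [(-2), 2, 0, 0, 0, 0, 0, 0, 0, 0, 0, 0, 0, (-2), 0, 2, 0, (-2), (-2), 2, 0, 0, 0, 2],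
  [(-2), (-2), 0, 0, 0, 0, 0, 0, 0, 0, 0, 0, 0, 2, 0, (-2), 0, 2, 2, (-2), 0, 0, 0, 2],
  [0, 4, 0, 0, 0, 0, 0, 0, 0, 0, 0, 0, 0, 0, 0, 4, 0, 0, 0, 0, 0, 0, 0, 0],
  [0, 4, 0, 0, 0, 0, 0, 0, 0, 0, 0, 0, 0, 0, 0, (-4), 0, 0, 0, 0, 0, 0, 0, 0],
  [0, 0, 0, 0, 0, 0, 0, 0, 0, 0, 0, 0, 0, 4, 0, (-4), 0, 0, 0, 0, 0, 0, 0, 0],
  [0, 0, 0, 0, 0, 0, 0, 0, 0, 0, 0, 0, 0, 4, 0, 4, 0, 0, 0, 0, 0, 0, 0, 0],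
  [0, 0, 0, 0, 0, 0, 0, 0, 0, 0, 0, 0, 0, 4, 0, 0, 0, 0, 0, (-4), 0, 0, 0, 0],
  [0, 0, 0, 0, 0, 0, 0, 0, 0, 0, 0, 0, 0, 4, 0, 0, 0, 0, 0, 4, 0, 0, 0, 0],
  [0, 4, 0, 0, 0, 0, 0, 0, 0, 0, 0, 0, 0, 0, 0, 0, 0, 0, 0, 4, 0, 0, 0, 0],
  [0, 4, 0, 0, 0, 0, 0, 0, 0, 0, 0, 0, 0, 0, 0, 0, 0, 0, 0, (-4), 0, 0, 0, 0],
  [(-2), (-2), 0, 0, 0, 0, 0, 0, 0, 0, 0, 0, 0, (-2), 0, 2, 0, (-2), (-2), (-2), 0, 0, 0, 2],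
  [(-2), 2, 0, 0, 0, 0, 0, 0, 0, 0, 0, 0, 0, 2, 0, (-2), 0, 2, 2, 2, 0, 0, 0, 2],
  [(-2), 2, 0, 0, 0, 0, 0, 0, 0, 0, 0, 0, 0, 2, 0, 2, 0, (-2), (-2), (-2), 0, 0, 0, 2],
  [(-2), (-2), 0, 0, 0, 0, 0, 0, 0, 0, 0, 0, 0, (-2), 0, (-2), 0, 2, 2, 2, 0, 0, 0, 2],
  [(-2), 2, 0, 0, 0, 0, 0, 0, 0, 0, 0, 0, 0, 2, 0, (-2), 0, (-2), (-2), 2, 0, 0, 0, 2],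
  [(-2), (-2), 0, 0, 0, 0, 0, 0, 0, 0, 0, 0, 0, (-2), 0, 2, 0, 2, 2, (-2), 0, 0, 0, 2],
  [(-2), (-2), 0, 0, 0, 0, 0, 0, 0, 0, 0, 0, 0, (-2), 0, (-2), 0, (-2), (-2), 2, 0, 0, 0, 2],
  [(-2), 2, 0, 0, 0, 0, 0, 0, 0, 0, 0, 0, 0, 2, 0, 2, 0, 2, 2, (-2), 0, 0, 0, 2],
  [0, 0, 0, 0, 0, 0, 0, 0, 0, 0, 0, 0, 0, 0, 0, 0, 0, 4, 0, (-4), 0, 0, 0, 0],
  [0, 0, 0, 0, 0, 0, 0, 0, 0, 0, 0, 0, 0, 0, 0, 0, 0, 4, 0, 4, 0, 0, 0, 0],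
  [0, 0, 0, 0, 0, 0, 0, 0, 0, 0, 0, 0, 0, 0, 0, 4, 0, 0, (-4), 0, 0, 0, 0, 0],
  [0, 0, 0, 0, 0, 0, 0, 0, 0, 0, 0, 0, 0, 0, 0, 4, 0, 0, 4, 0, 0, 0, 0, 0],
  [0, 0, 0, 0, 0, 0, 0, 0, 0, 0, 0, 0, 0, 0, 0, 0, 0, 0, 4, (-4), 0, 0, 0, 0],
  [0, 0, 0, 0, 0, 0, 0, 0, 0, 0, 0, 0, 0, 0, 0, 0, 0, 0, 4, 4, 0, 0, 0, 0],
  [0, 0, 0, 0, 0, 0, 0, 0, 0, 0, 0, 0, 0, 0, 0, 4, 0, (-4), 0, 0, 0, 0, 0, 0],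
  [0, 0, 0, 0, 0, 0, 0, 0, 0, 0, 0, 0, 0, 0, 0, 4, 0, 4, 0, 0, 0, 0, 0, 0],
  [(-2), 2, 0, 0, 0, 0, 0, 0, 0, 0, 0, 0, 0, (-2), 0, (-2), 0, 2, (-2), 2, 0, 0, 0, 2],
  [(-2), (-2), 0, 0, 0, 0, 0, 0, 0, 0, 0, 0, 0, 2, 0, 2, 0, (-2), 2, (-2), 0, 0, 0, 2],
  [(-2), 2, 0, 0, 0, 0, 0, 0, 0, 0, 0, 0, 0, (-2), 0, 2, 0, (-2), 2, (-2), 0, 0, 0, 2],
  [(-2), (-2), 0, 0, 0, 0, 0, 0, 0, 0, 0, 0, 0, 2, 0, (-2), 0, 2, (-2), 2, 0, 0, 0, 2],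
  [(-2), 2, 0, 0, 0, 0, 0, 0, 0, 0, 0, 0, 0, (-2), 0, (-2), 0, (-2), 2, 2, 0, 0, 0, 2],
  [(-2), (-2), 0, 0, 0, 0, 0, 0, 0, 0, 0, 0, 0, 2, 0, 2, 0, 2, (-2), (-2), 0, 0, 0, 2],
  [(-2), 2, 0, 0, 0, 0, 0, 0, 0, 0, 0, 0, 0, (-2), 0, 2, 0, 2, (-2), (-2), 0, 0, 0, 2],
  [(-2), (-2), 0, 0, 0, 0, 0, 0, 0, 0, 0, 0, 0, 2, 0, (-2), 0, (-2), 2, 2, 0, 0, 0, 2],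
  [0, 0, 0, 0, 0, 0, 0, 0, 0, 0, 0, 0, 0, 4, 0, 0, 0, 0, (-4), 0, 0, 0, 0, 0],
  [0, 0, 0, 0, 0, 0, 0, 0, 0, 0, 0, 0, 0, 4, 0, 0, 0, 0, 4, 0, 0, 0, 0, 0],
  [0, 4, 0, 0, 0, 0, 0, 0, 0, 0, 0, 0, 0, 0, 0, 0, 0, 0, 4, 0, 0, 0, 0, 0],
  [0, 4, 0, 0, 0, 0, 0, 0, 0, 0, 0, 0, 0, 0, 0, 0, 0, 0, (-4), 0, 0, 0, 0, 0],
  [0, 0, 0, 0, 0, 0, 0, 0, 0, 0, 0, 0, 0, 4, 0, 0, 0, (-4), 0, 0, 0, 0, 0, 0],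
  [0, 0, 0, 0, 0, 0, 0, 0, 0, 0, 0, 0, 0, 4, 0, 0, 0, 4, 0, 0, 0, 0, 0, 0],
  [0, 4, 0, 0, 0, 0, 0, 0, 0, 0, 0, 0, 0, 0, 0, 0, 0, 4, 0, 0, 0, 0, 0, 0],
  [0, 4, 0, 0, 0, 0, 0, 0, 0, 0, 0, 0, 0, 0, 0, 0, 0, (-4), 0, 0, 0, 0, 0, 0],
  [(-2), 2, 0, 0, 0, 0, 0, 0, 0, 0, 0, 0, 0, 2, 0, (-2), 0, (-2), 2, (-2), 0, 0, 0, 2],
  [(-2), (-2), 0, 0, 0, 0, 0, 0, 0, 0, 0, 0, 0, (-2), 0, 2, 0, 2, (-2), 2, 0, 0, 0, 2],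
  [(-2), (-2), 0, 0, 0, 0, 0, 0, 0, 0, 0, 0, 0, (-2), 0, (-2), 0, (-2), 2, (-2), 0, 0, 0, 2],
  [(-2), 2, 0, 0, 0, 0, 0, 0, 0, 0, 0, 0, 0, 2, 0, 2, 0, 2, (-2), 2, 0, 0, 0, 2],
  [(-2), 2, 0, 0, 0, 0, 0, 0, 0, 0, 0, 0, 0, 2, 0, (-2), 0, 2, (-2), (-2), 0, 0, 0, 2],
  [(-2), (-2), 0, 0, 0, 0, 0, 0, 0, 0, 0, 0, 0, (-2), 0, 2, 0, (-2), 2, 2, 0, 0, 0, 2],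
  [(-2), (-2), 0, 0, 0, 0, 0, 0, 0, 0, 0, 0, 0, (-2), 0, (-2), 0, 2, (-2), (-2), 0, 0, 0, 2],
  [(-2), 2, 0, 0, 0, 0, 0, 0, 0, 0, 0, 0, 0, 2, 0, 2, 0, (-2), 2, 2, 0, 0, 0, 2]]

/-- The points of the octad. -/
def octPts : List ℕ := [0, 1, 13, 15, 17, 18, 19, 23]

/-- Eight times a unit vector on the octad in roots. -/
def frameDec : List (ℤ × ℕ × ℤ × ℕ × ℤ) := [(1, 1, 1, 0, 1), (0, 2, 1, 3, 1), (0, 2, 1, 3, (-1)), (0, 6, 1, 7, 1), (0, 4, 1, 5, 1), (0, 4, (-1), 5, 1), (0, 6, (-1), 7, 1), (1, 1, (-1), 0, 1)]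

/-- The matrix of the block element. -/
def blockMat : List (List ℤ) := [
  [4, (-4), 0, 0, 0, 0, 0, 0, 0, 0, 0, 0, 0, (-4), 0, 0, 0, 0, 0, 0, 0, 0, 0, (-4)],
  [(-4), 4, 0, 0, 0, 0, 0, 0, 0, 0, 0, 0, 0, (-4), 0, 0, 0, 0, 0, 0, 0, 0, 0, (-4)],
  [0, 0, (-4), 0, 4, 0, 0, 0, 0, 0, 0, 0, 0, 0, 0, 0, 4, 0, 0, 0, 0, 0, 4, 0],
  [0, 0, 0, (-4), 0, 0, 4, 0, 4, 0, 4, 0, 0, 0, 0, 0, 0, 0, 0, 0, 0, 0, 0, 0],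
  [0, 0, 4, 0, (-4), 0, 0, 0, 0, 0, 0, 0, 0, 0, 0, 0, 4, 0, 0, 0, 0, 0, 4, 0],
  [0, 0, 0, 0, 0, (-4), 0, 0, 0, 4, 0, 4, 0, 0, 0, 0, 0, 0, 0, 0, 0, 4, 0, 0],
  [0, 0, 0, 4, 0, 0, (-4), 0, 4, 0, 4, 0, 0, 0, 0, 0, 0, 0, 0, 0, 0, 0, 0, 0],
  [0, 0, 0, 0, 0, 0, 0, (-4), 0, 0, 0, 0, 4, 0, 4, 0, 0, 0, 0, 0, 4, 0, 0, 0],
  [0, 0, 0, 4, 0, 0, 4, 0, (-4), 0, 4, 0, 0, 0, 0, 0, 0, 0, 0, 0, 0, 0, 0, 0],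
  [0, 0, 0, 0, 0, 4, 0, 0, 0, (-4), 0, 4, 0, 0, 0, 0, 0, 0, 0, 0, 0, 4, 0, 0],
  [0, 0, 0, 4, 0, 0, 4, 0, 4, 0, (-4), 0, 0, 0, 0, 0, 0, 0, 0, 0, 0, 0, 0, 0],
  [0, 0, 0, 0, 0, 4, 0, 0, 0, 4, 0, (-4), 0, 0, 0, 0, 0, 0, 0, 0, 0, 4, 0, 0],
  [0, 0, 0, 0, 0, 0, 0, 4, 0, 0, 0, 0, (-4), 0, 4, 0, 0, 0, 0, 0, 4, 0, 0, 0],
  [(-4), (-4), 0, 0, 0, 0, 0, 0, 0, 0, 0, 0, 0, 4, 0, 0, 0, 0, 0, 0, 0, 0, 0, (-4)],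
  [0, 0, 0, 0, 0, 0, 0, 4, 0, 0, 0, 0, 4, 0, (-4), 0, 0, 0, 0, 0, 4, 0, 0, 0],
  [0, 0, 0, 0, 0, 0, 0, 0, 0, 0, 0, 0, 0, 0, 0, (-4), 0, 4, 4, 4, 0, 0, 0, 0],
  [0, 0, 4, 0, 4, 0, 0, 0, 0, 0, 0, 0, 0, 0, 0, 0, (-4), 0, 0, 0, 0, 0, 4, 0],
  [0, 0, 0, 0, 0, 0, 0, 0, 0, 0, 0, 0, 0, 0, 0, 4, 0, (-4), 4, 4, 0, 0, 0, 0],
  [0, 0, 0, 0, 0, 0, 0, 0, 0, 0, 0, 0, 0, 0, 0, 4, 0, 4, (-4), 4, 0, 0, 0, 0],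
  [0, 0, 0, 0, 0, 0, 0, 0, 0, 0, 0, 0, 0, 0, 0, 4, 0, 4, 4, (-4), 0, 0, 0, 0],
  [0, 0, 0, 0, 0, 0, 0, 4, 0, 0, 0, 0, 4, 0, 4, 0, 0, 0, 0, 0, (-4), 0, 0, 0],
  [0, 0, 0, 0, 0, 4, 0, 0, 0, 4, 0, 4, 0, 0, 0, 0, 0, 0, 0, 0, 0, (-4), 0, 0],
  [0, 0, 4, 0, 4, 0, 0, 0, 0, 0, 0, 0, 0, 0, 0, 0, 4, 0, 0, 0, 0, 0, (-4), 0],
  [(-4), (-4), 0, 0, 0, 0, 0, 0, 0, 0, 0, 0, 0, (-4), 0, 0, 0, 0, 0, 0, 0, 0, 0, 4]]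

/-- The monomial parts: code, inverse code and sign mask. -/
def monoTab : List (ℕ × ℕ × ℕ) := [(984818244535754528103549039458486304, 984818244535754528103549039458486304, 4105386), (546010668555947015342946715772326930, 544325959669106541175479667855080001, 13062145), (19012995607466681512970854945130935, 26556781854187586743954084718709239, 0), (983546747506058656397609545855320608, 983555506683751275060487539545876896, 0)]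

/-- The transvection class. -/
def tvClass : ℕ := 1

/-- Words moving the transvection class to every class. -/
def tvWords : List (List ℕ) := [
  [],
  [],
  [1, 3, 2],
  [1, 2, 1, 2, 1, 1],
  [1, 2, 1, 2, 2, 2],
  [1, 1, 1],
  [1, 2, 1, 3, 2, 2],
  [1, 2, 3],
  [1, 3, 2, 3, 1, 3],
  [1, 1, 2, 1, 2, 1, 2],
  [1, 3, 2, 3, 2, 1],
  [1, 3, 2, 3, 1],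
  [1, 1, 2, 1, 1, 1],
  [1, 1, 2, 2, 3],
  [1, 1, 2],
  [1, 1, 2, 1, 2, 3],
  [1, 3],
  [1, 3, 2, 1, 3],
  [1, 1, 2, 1, 1, 2],
  [1, 1, 1, 3],
  [1, 2, 1, 3],
  [1, 1, 1, 2, 3],
  [1, 2, 3, 2],
  [1, 3, 2, 1, 2, 1],
  [1, 1, 1, 3, 1, 1],
  [1, 1, 2, 1, 2, 1],
  [1, 1, 1, 3, 1, 2],
  [1, 1, 2, 3],
  [1, 2, 1, 3, 1],
  [1, 1, 2, 2],
  [1, 1, 1, 2, 3, 1, 1],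
  [1, 1, 2, 1, 3, 1],
  [1, 2, 3, 3, 1],
  [1, 3, 3],
  [1, 3, 2, 1, 2],
  [1, 2],
  [1, 2, 1, 3, 2],
  [1, 2, 3, 3],
  [1, 2, 1],
  [1, 1, 1, 2],
  [1, 1, 2, 1, 2],
  [1, 3, 1, 1],
  [1, 3, 1],
  [1, 1, 1, 3, 1],
  [1, 2, 3, 2, 1],
  [1, 1, 1, 2, 3, 1],
  [1, 1, 2, 1, 3],
  [1, 1, 2, 2, 2],
  [1, 3, 2, 1],
  [1],
  [1, 1, 1, 3, 2],
  [1, 1, 2, 1, 1],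
  [1, 2, 1, 2, 2],
  [1, 3, 2, 3, 2],
  [1, 3, 2, 3],
  [1, 2, 1, 2],
  [1, 1, 2, 1],
  [1, 3, 1, 3],
  [1, 2, 1, 2, 1],
  [1, 2, 1, 2, 2, 1],
  [1, 1],
  [1, 1, 1, 3, 2, 1],
  [1, 3, 2, 3, 1, 1, 2],
  [1, 3, 2, 3, 1, 1]]

end Cfsg.Agent.FGS4.Co2Cent
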